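import Cfsg.Agent.Lib.HSub.Fix
import Cfsg.Agent.Lib.TransferControl.Basic
import Cfsg.Agent.Lib.Tate
import Cfsg.Agent.Lib.PComplement
import Cfsg.Agent.Lib.Solvable.Frattini

/-!
A normal `p`-complement, for the smallest prime `p`, from H-subgroups of one intermediate order.
-/

set_option autoImplicit false
set_option linter.unusedSectionVars false

namespace CfsgLib.HSub

open CfsgLib Cfsg CfsgLib.StrongFusion CfsgLib.TransferControl
open scoped Pointwise commutatorElement

universe u

variable {G : Type u} [Group G] [Finite G] {p : ℕ} [hp : Fact p.Prime]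

theorem coprime_pred {n : ℕ} (hmin : ∀ q : ℕ, q.Prime → q ∣ Nat.card G → p ≤ q) (hn : n ∣ Nat.card G) :
    n.Coprime (p - 1) := by
  refine Nat.coprime_of_dvd fun q hq h1 h2 => ?_
  have hp1 := hp.out.two_le
  have := hmin q hq (h1.trans hn)
  have := Nat.le_of_dvd (by omega) h2
  omega

/-- Fusion respects `T` once the automizers do. -/
theorem fx_of_automizers (P : Sylow p G) {T : Subgroup G}
    (haut : ∀ V ≤ (P : Subgroup G), ∀ n ∈ Subgroup.normalizer (V : Set G), Fx T V n)
    {A : Subgroup G} {g : G} (hA : A ≤ (P : Subgroup G)) (hg : cm g A ≤ (P : Subgroup G)) : Fx T A g := by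
  induction hk : Nat.card G - Nat.card A using Nat.strong_induction_on generalizing A g with
  | h k ih =>
  subst hk
  have big : ∀ (B : Subgroup G) (y : G), Nat.card A < Nat.card B → B ≤ (P : Subgroup G) →
      cm y B ≤ (P : Subgroup G) → Fx T B y := fun B y hc hB hy =>
    ih _ (by have := Nat.le_of_dvd Nat.card_pos B.card_subgroup_dvd_card; omega) hB hy rfl
  by_cases hAP : A = (P : Subgroup G)
  · exact haut A hA g (Local.mem_normalizer_of_map_conj_eq
      (Subgroup.eq_of_le_of_card_ge (hg.trans hAP.ge) (card_cm g A).ge))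
  have hlarge : ∀ C : Subgroup G, C ≤ (P : Subgroup G) → Nat.card C = Nat.card A →
      Nat.card A < Nat.card ↥((P : Subgroup G) ⊓ Subgroup.normalizer (C : Set G)) := by
    intro C hC hc
    have hne : C ≠ (P : Subgroup G) := fun h => hAP (Subgroup.eq_of_le_of_card_ge hA (by rw [← hc, h]))
    have h := StrongFusion.lt_inf_normalizer P hC hne
    rw [← hc]
    exact lt_of_le_of_ne (Subgroup.card_le_of_le h.le) fun e => h.ne (Subgroup.eq_of_le_of_card_ge h.le e.ge)
  obtain ⟨y₁, hy₁, hVg⟩ := exists_full P hA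
  set V := cm y₁ A with hV
  have hVP : V ≤ (P : Subgroup G) := (cm_mono (le_inf hA Subgroup.le_normalizer)).trans hy₁
  have hchA : Fx T A y₁ :=
    (big _ y₁ (hlarge A hA rfl) inf_le_left hy₁).mono (le_inf hA Subgroup.le_normalizer)
  set TB := (P : Subgroup G) ⊓ Subgroup.normalizer (cm g A : Set G) with hTB
  set z := y₁ * g⁻¹ with hz
  have hzB : cm z (cm g A) = V := by rw [cm_cm, hz, inv_mul_cancel_right]
  obtain ⟨w, hwN, hw⟩ := exists_conj_le (Q := (P : Subgroup G) ⊓ Subgroup.normalizer (V : Set G)) inf_le_right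
    (P.2.to_le inf_le_left) hVg (R := cm z TB)
    (Local.map_conj_le fun x hx => Local.mem_normalizer_of_map_conj_eq (by
      show cm (z * x * z⁻¹) V = V
      rw [← hzB, cm_cm, show z * x * z⁻¹ * z = z * x by group, ← cm_cm]
      exact congrArg (cm z) (Local.map_conj_eq_of_mem_normalizer hx.2)))
    ((P.2.to_le inf_le_left).map _)
  have hwz : cm (w * z) TB ≤ (P : Subgroup G) := by rw [← cm_cm]; exact hw.trans inf_le_left
  have hchB : Fx T (cm g A) (w * z) :=
    (big TB (w * z) (hlarge _ hg (card_cm g A)) inf_le_left hwz).mono (le_inf hg Subgroup.le_normalizer)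
  have hRV := haut V hVP w hwN
  have hwV : cm w V = V := Local.map_conj_eq_of_mem_normalizer hwN
  have h3 := hchB.inv
  rw [← cm_cm, hzB, hwV] at h3
  have h4 : Fx T A ((w * z)⁻¹ * (w * y₁)) := by
    refine (hchA.comp hRV).comp ?_
    rw [← cm_cm, hwV]
    exact h3
  rwa [show (w * z)⁻¹ * (w * y₁) = g by rw [hz]; group] at h4

theorem hs_of_map {N : Subgroup G} {E : Subgroup N} (h : HS (E.map N.subtype)) : HS E := by
  intro g x hx
  obtain ⟨⟨y, hy, rfl⟩, hx2⟩ := hx
  have h1 : N.subtype ((g : N) * y * (g : N)⁻¹) ∈ E.map N.subtype :=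
    h (g : G) ⟨⟨(y : G), ⟨y, hy, rfl⟩, rfl⟩, Subgroup.le_normalizer_map N.subtype ⟨_, hx2, rfl⟩⟩
  obtain ⟨z, hz, hze⟩ := h1
  rw [N.subtype_injective hze] at hz
  exact hz

theorem fam_subgroupOf {d : ℕ} {P N : Subgroup G} (h : Fam d P) : Fam d (P.subgroupOf N) := fun E hE hc =>
  hs_of_map (h (E.map N.subtype) ((Subgroup.map_mono hE).trans (by
    rw [Subgroup.subgroupOf_map_subtype]; exact inf_le_left))
    (by rwa [Subgroup.card_map_of_injective N.subtype_injective]))

theorem pResidual_inf_le_commutator (P : Sylow p G) :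
    pResidual p G ⊓ (P : Subgroup G) ≤ (P : Subgroup G) ⊓ commutator G := by
  set A := Abelianization G
  set m := ordCompl[p] (Nat.card A)
  set K : Subgroup G := (powMonoidHom m : A →* A).ker.comap Abelianization.of
  have hle : pResidual p G ≤ K := pResidual_le fun g hg => by
    show (Abelianization.of g) ^ m = 1
    refine orderOf_dvd_iff_pow_eq_one.1 ?_
    have h1 : orderOf (Abelianization.of g) ∣ ordProj[p] (Nat.card A) * m := by
      rw [Nat.ordProj_mul_ordCompl_eq_self]; exact orderOf_dvd_natCard _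
    exact (Nat.Coprime.dvd_of_dvd_mul_left
      ((hg.coprime_dvd_left (orderOf_map_dvd Abelianization.of g)).pow_right _) h1)
  rintro x ⟨hx, hxP⟩
  refine ⟨hxP, (QuotientGroup.eq_one_iff x).1 ?_⟩
  obtain ⟨k, hk⟩ := P.2 ⟨x, hxP⟩
  refine eq_one_of_coprime (p := p) (z := Abelianization.of x) ⟨k, ?_⟩ ?_ (hle hx)
  · rw [← map_pow, show x ^ p ^ k = 1 by simpa using congrArg Subtype.val hk, map_one]
  · exact (Nat.coprime_ordCompl hp.out Nat.card_pos.ne').symm

theorem hasNormalPComplement_of_focal_le (P : Sylow p G)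
    (h : (P : Subgroup G) ⊓ commutator G ≤ (frattini P).map (P : Subgroup G).subtype) :
    HasNormalPComplement p G := by
  have h1 := hasNormalPComplement_of_inf_le_frattini P (pResidual p G) ((pResidual_inf_le_commutator P).trans h)
  rw [hasNormalPComplement_iff_pResidual, pResidual_idem, Subgroup.card_top] at h1
  exact hasNormalPComplement_iff_pResidual.2 h1

/-- The case of a cyclic Sylow subgroup. -/
theorem hasNormalPComplement_of_cyclic (hmin : ∀ q : ℕ, q.Prime → q ∣ Nat.card G → p ≤ q) (P : Sylow p G)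
    (hP : IsCyclic (P : Subgroup G)) : HasNormalPComplement p G := by
  refine hasNormalPComplement_of_frobeniusCond (frobeniusCond_of_sylow P fun U hU g hg hgp => ?_)
  set N := Subgroup.normalizer (U : Set G)
  haveI := hP
  haveI : IsCyclic (U.subgroupOf N) := isCyclic_of_injective
    ((Subgroup.inclusion hU).comp (Subgroup.subgroupOfEquivOfLe (Subgroup.le_normalizer : U ≤ N)).toMonoidHom)
    ((Subgroup.inclusion_injective hU).comp (Subgroup.subgroupOfEquivOfLe (Subgroup.le_normalizer : U ≤ N)).injective)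
  haveI : (U.subgroupOf N).Normal := Subgroup.normal_in_normalizer
  have h := (Supersolvable.cyclic_normal_centralized (U.subgroupOf N)).2 (⟨g, hg⟩ : N)
  obtain ⟨k, hk⟩ := (P.2.to_le hU).exists_card_eq
  rw [Nat.card_congr (Subgroup.subgroupOfEquivOfLe (Subgroup.le_normalizer : U ≤ N)).toEquiv, hk] at h
  have hcop : (orderOf g).Coprime (Nat.totient (p ^ k)) := by
    rcases k.eq_zero_or_pos with rfl | hk0
    · rw [pow_zero, Nat.totient_one]; exact Nat.coprime_one_right _
    · rw [Nat.totient_prime_pow hp.out hk0]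
      exact (hgp.pow_right _).mul_right (coprime_pred hmin (orderOf_dvd_natCard g))
  obtain ⟨z, hz⟩ := Subgroup.mem_zpowers_iff.1 (mem_zpowers_pow (v := (⟨g, hg⟩ : N))
    (m := Nat.totient (p ^ k)) (by rw [← Subgroup.orderOf_coe]; exact hcop))
  have h2 := zpow_mem h z
  rw [hz] at h2
  intro u hu
  exact congrArg Subtype.val (h2 ⟨u, Subgroup.le_normalizer hu⟩ hu)

/-- A normal `p`-complement from H-subgroups of order `p ^ a`. -/
theorem hasNormalPComplement_of_fam {a : ℕ} (ha : 1 ≤ a)
    (hmin : ∀ q : ℕ, q.Prime → q ∣ Nat.card G → p ≤ q) (P : Sylow p G)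
    (hcard : p ^ a < Nat.card (P : Subgroup G)) (hfam : Fam (p ^ a) (P : Subgroup G)) :
    HasNormalPComplement p G := by
  induction hn : Nat.card G using Nat.strong_induction_on generalizing G with
  | h n ih =>
  subst hn
  set S : Subgroup G := (P : Subgroup G)
  have hpred : ∀ g : G, (orderOf g).Coprime (p - 1) := fun g => coprime_pred hmin (orderOf_dvd_natCard g)
  by_cases hA : ∃ C ≤ S, IsCyclic C ∧ Nat.card C = p ^ a ∧ C.Normal
  · obtain ⟨C, hCS, hCc, hCcard, hCn⟩ := hA
    refine hasNormalPComplement_of_frobeniusCond (frobeniusCond_of_sylow P fun U hU g hg hgp => ?_)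
    have h := pow_centralizes P.2 ha hfam hCS hCcard hU hg
      (by rw [Subgroup.normalizer_eq_top]; trivial) hgp
    obtain ⟨z, hz⟩ := Subgroup.mem_zpowers_iff.1 (mem_zpowers_pow (v := g) (hpred g))
    exact hz ▸ zpow_mem h z
  refine hasNormalPComplement_of_focal_le P ?_
  -- long elements are fused only inside `P`
  have hbig : ∀ x ∈ S, ¬ orderOf x ∣ p ^ a → ∀ g : G, g * x * g⁻¹ ∈ S → ⁅g, x⁆ ∈ ⁅S, S⁆ := by
    intro x hx hxo g hgx
    obtain ⟨k, hk⟩ := (P.2.to_le (Subgroup.zpowers_le.2 hx)).exists_card_eq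
    rw [Nat.card_zpowers] at hk
    have hka : a < k := by
      by_contra hcon
      exact hxo (hk ▸ pow_dvd_pow p (by omega))
    set c := x ^ p ^ (k - a) with hc
    have hcS : c ∈ S := pow_mem hx _
    set C := Subgroup.zpowers c with hCdef
    have hCcard : Nat.card C = p ^ a := by
      rw [Nat.card_zpowers, hc, orderOf_pow_of_dvd (pow_ne_zero _ hp.out.ne_zero) (hk ▸ pow_dvd_pow p (by omega)),
        hk, Nat.pow_div (by omega) hp.out.pos, show k - (k - a) = a by omega]
    have hCS : C ≤ S := Subgroup.zpowers_le.2 hcS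
    have hgN : g ∈ Subgroup.normalizer (C : Set G) := by
      refine Local.mem_normalizer_of_map_conj_eq (Subgroup.eq_of_le_of_card_ge ?_ (card_cm g C).ge)
      show cm g C ≤ C
      rw [cm, hCdef, MonoidHom.map_zpowers, Subgroup.zpowers_le]
      refine mem_of_hs P.2 (hfam C hCS (Or.inl hCcard)) hCS (Subgroup.mem_zpowers c) ?_
      rw [hc, ← conj_pow]
      exact pow_mem hgx _
    set N := Subgroup.normalizer (C : Set G)
    have hN : N ≠ ⊤ := fun e => hA ⟨C, hCS, inferInstance, hCcard, Subgroup.normalizer_eq_top_iff.1 e⟩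
    have hSN : S ≤ N := le_normalizer_of_hs P.2 (hfam C hCS (Or.inl hCcard)) hCS
    set P' : Sylow p N := P.subtype hSN
    have hnpc := ih (Nat.card N) (lt_of_le_of_ne (Nat.le_of_dvd Nat.card_pos N.card_subgroup_dvd_card)
        fun e => hN (Subgroup.eq_top_of_card_eq N e)) (G := N)
      (fun q hq hd => hmin q hq (hd.trans N.card_subgroup_dvd_card)) P'
      (by rw [Sylow.coe_subtype, Nat.card_congr (Subgroup.subgroupOfEquivOfLe hSN).toEquiv]; exact hcard)
      (by rw [Sylow.coe_subtype]; exact fam_subgroupOf hfam) rfl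
    obtain ⟨⟨u, huN⟩, hu, hue⟩ := exists_conj_in_sylow (frobeniusCond_of_hasNormalPComplement hnpc) P'
      (x := ⟨x, hSN hx⟩) (g := ⟨g, hgN⟩) hx hgx
    have hue' : u * x * u⁻¹ = g * x * g⁻¹ := congrArg Subtype.val hue
    rw [show ⁅g, x⁆ = ⁅u, x⁆ by rw [commutatorElement_def, commutatorElement_def, hue']]
    exact Subgroup.commutator_mem_commutator hu hx
  -- every maximal subgroup contains the focal subgroup
  suffices hmax : ∀ M₀ : Subgroup S, IsCoatom M₀ → S ⊓ commutator G ≤ M₀.map S.subtype by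
    intro x hx
    refine ⟨⟨x, hx.1⟩, ?_, rfl⟩
    refine FrattiniLemmas.le_frattini_of_forall (N := Subgroup.zpowers ⟨x, hx.1⟩) (fun M₀ hM₀ => ?_) (Subgroup.mem_zpowers _)
    rw [Subgroup.zpowers_le]
    obtain ⟨y, hy, hye⟩ := hmax M₀ hM₀ hx
    exact (Subtype.ext hye : y = ⟨x, hx.1⟩) ▸ hy
  intro M₀ hM₀
  obtain ⟨hM₀n, hM₀i⟩ := index_coatom_pGroup P.2 hM₀
  set M := M₀.map S.subtype with hMdef
  have hMS : M ≤ S := Subgroup.map_subtype_le _
  have hMrel : M.relIndex S = p := by
    rw [Subgroup.relIndex, Subgroup.subgroupOf, Subgroup.comap_map_eq_self_of_injective S.subtype_injective, hM₀i]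
  have hSNM : S ≤ Subgroup.normalizer (M : Set G) := (Subgroup.normal_subgroupOf_iff_le_normalizer hMS).1 (by
    rw [Subgroup.subgroupOf, Subgroup.comap_map_eq_self_of_injective S.subtype_injective]; exact hM₀n)
  have hdM : ⁅S, S⁆ ≤ M := by
    rw [← Subgroup.map_subtype_commutator]
    exact Subgroup.map_mono ((commutator_le_frattini_pGroup P.2).trans (frattini_le_coatom hM₀))
  have hsmall : ∀ x ∈ M, ∀ g : G, g * x * g⁻¹ ∈ S → g * x * g⁻¹ ∈ M := by
    intro x hx g hgx
    by_cases hxo : orderOf x ∣ p ^ a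
    · obtain ⟨b, hb⟩ := (P.2.to_le hMS).exists_card_eq
      have hSb : Nat.card S = p ^ (b + 1) := by
        rw [← Subgroup.relIndex_bot_left S, ← Subgroup.relIndex_mul_relIndex _ _ _ bot_le hMS, hMrel,
          Subgroup.relIndex_bot_left, hb, pow_succ]
      have hab : a ≤ b := by
        have := (Nat.pow_lt_pow_iff_right hp.out.one_lt).1 (hSb ▸ hcard)
        omega
      obtain ⟨k, hka, hk⟩ := (Nat.dvd_prime_pow hp.out).1 hxo
      obtain ⟨E, hE, hxE⟩ := Sylow.exists_subgroup_card_pow_prime_le (G := M) p (n := k) (m := a)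
        (hb ▸ pow_dvd_pow p hab) ((Subgroup.zpowers x).subgroupOf M) (by
          rw [Nat.card_congr (Subgroup.subgroupOfEquivOfLe (Subgroup.zpowers_le.2 hx)).toEquiv, Nat.card_zpowers, hk])
        hka
      have hES : E.map M.subtype ≤ S := (Subgroup.map_subtype_le _).trans hMS
      exact Subgroup.map_subtype_le E (mem_of_hs P.2 (hfam _ hES (Or.inl (by
        rw [Subgroup.card_map_of_injective M.subtype_injective, hE]))) hES
        ⟨⟨x, hx⟩, hxE (Subgroup.mem_zpowers x), rfl⟩ hgx)
    · have := mul_mem (hdM (hbig x (hMS hx) hxo g hgx)) hx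
      rwa [show ⁅g, x⁆ * x = g * x * g⁻¹ by simp only [commutatorElement_def]; group] at this
  have haut : ∀ V ≤ S, ∀ n ∈ Subgroup.normalizer (V : Set G), Fx M V n := by
    intro V hV n hn v hv
    have hconj : ∀ y ∈ V, n * y * n⁻¹ ∈ V := fun y hy => (Subgroup.mem_normalizer_iff.1 hn y).1 hy
    by_cases hVM : V ≤ M
    · rw [commutatorElement_def]
      exact mul_mem (hVM (hconj v hv)) (inv_mem (hVM hv))
    set W := V ⊓ M
    have hnW : n ∈ Subgroup.normalizer (W : Set G) := by
      refine Local.mem_normalizer_of_map_conj_eq (Subgroup.eq_of_le_of_card_ge (Local.map_conj_le fun y hy =>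
        Subgroup.mem_inf.2 ⟨hconj y hy.1, hsmall y hy.2 n (hV (hconj y hy.1))⟩) (card_cm n W).ge)
    have hVW : V ≤ Subgroup.normalizer (W : Set G) :=
      (le_inf Subgroup.le_normalizer (hV.trans hSNM)).trans Subgroup.inf_normalizer_le_normalizer_inf
    have hidx : W.relIndex V = p := by
      haveI : (M.subgroupOf S).Normal := (Subgroup.normal_subgroupOf_iff_le_normalizer hMS).2 hSNM
      rw [Subgroup.inf_relIndex_left]
      rcases hp.out.eq_one_or_self_of_dvd (M.relIndex V) (by
        rw [← Subgroup.relIndex_subgroupOf hV]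
        exact (Subgroup.relIndex_dvd_index_of_normal (M.subgroupOf S) _).trans hMrel.dvd) with h | h
      · exact absurd (Subgroup.relIndex_eq_one.1 h) hVM
      · exact h
    obtain ⟨z, hz⟩ := Subgroup.mem_zpowers_iff.1 (mem_zpowers_pow (v := n) (hpred n))
    have h1 := pow_acts_mod inf_le_left hidx hVW (w := n ^ z) (zpow_mem hn z) (zpow_mem hnW z) hv
    rw [← zpow_natCast, ← zpow_mul, mul_comm, zpow_mul, zpow_natCast, hz] at h1
    exact h1.2
  rw [inf_comm, Subgroup.commutator_inf_eq_focalSubgroup, Subgroup.focalSubgroup_def, Subgroup.closure_le]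
  rintro _ ⟨hg, x, hx, u, rfl⟩
  have hux : u * x⁻¹ * u⁻¹ ∈ S := by
    have := mul_mem (inv_mem hx) hg
    rwa [show x⁻¹ * ⁅x, u⁆ = u * x⁻¹ * u⁻¹ by simp only [commutatorElement_def]; group] at this
  have h1 := fx_of_automizers P haut (A := Subgroup.zpowers x⁻¹) (g := u) (Subgroup.zpowers_le.2 (inv_mem hx)) (by
    rintro _ ⟨b, hb, rfl⟩
    obtain ⟨k, rfl⟩ := Subgroup.mem_zpowers_iff.1 hb
    show u * x⁻¹ ^ k * u⁻¹ ∈ S
    rw [← conj_zpow]; exact zpow_mem hux k) x⁻¹ (Subgroup.mem_zpowers _)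
  have h2 := conj_mem_of_derived_le hMS hdM hx h1
  rwa [show x * ⁅u, x⁻¹⁆ * x⁻¹ = ⁅x, u⁆ by simp only [commutatorElement_def]; group] at h2

end CfsgLib.HSub
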