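import Cfsg.Agent.Lib.SmallElements
import Cfsg.Agent.Lib.Solvable.Huppert
import Cfsg.Agent.Lib.WeakClosed.Reduce
import Cfsg.Agent.Lib.StrongFusion.Local

/-!
H-subgroups (`E^g ∩ N(E) ≤ E`) of a fixed order in a `p`-subgroup, and the action of `p'`-elements normalizing a
cyclic one.
-/

set_option autoImplicit false
set_option linter.unusedSectionVars false

namespace CfsgLib.HSub

open CfsgLib Cfsg CfsgLib.StrongFusion
open scoped Pointwise commutatorElement

variable {G : Type*} [Group G] [Finite G] {p : ℕ} [hp : Fact p.Prime]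

/-- An H-subgroup. -/
def HS (E : Subgroup G) : Prop :=
  ∀ g : G, E.map (MulAut.conj g).toMonoidHom ⊓ Subgroup.normalizer (E : Set G) ≤ E

/-- All subgroups of order `d` (and `4` if `d = 2`) are H-subgroups. -/
def Fam (d : ℕ) (P : Subgroup G) : Prop :=
  ∀ E : Subgroup G, E ≤ P → (Nat.card E = d ∨ (d = 2 ∧ Nat.card E = 4)) → HS E

theorem Fam.mono {d : ℕ} {P P' : Subgroup G} (h : Fam d P) (hle : P' ≤ P) : Fam d P' :=
  fun E hE => h E (hE.trans hle)

theorem le_normalizer_of_hs {P E : Subgroup G} (hP : IsPGroup p P) (hE : HS E) (hEP : E ≤ P) :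
    P ≤ Subgroup.normalizer (E : Set G) := by
  set K := P ⊓ Subgroup.normalizer (E : Set G) with hK
  by_contra hne
  have hKP : K ≠ P := fun h => hne (h ▸ inf_le_right)
  obtain ⟨y, hy, hyK⟩ := SetLike.exists_of_lt (WeakClosed.lt_inf_normalizer' hP (inf_le_left : K ≤ P) hKP)
  have hEK : E ≤ K := le_inf hEP Subgroup.le_normalizer
  have hcm : cm y E ≤ Subgroup.normalizer (E : Set G) := (cm_mono hEK).trans
    ((Local.map_conj_eq_of_mem_normalizer hy.2).le.trans inf_le_right)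
  exact hyK ⟨hy.1, Local.mem_normalizer_of_map_conj_eq
    (Subgroup.eq_of_le_of_card_ge ((le_inf le_rfl hcm).trans (hE y)) (card_cm y E).ge)⟩

theorem mem_of_hs {P E : Subgroup G} (hP : IsPGroup p P) (hE : HS E) (hEP : E ≤ P) {x g : G} (hx : x ∈ E)
    (hg : g * x * g⁻¹ ∈ P) : g * x * g⁻¹ ∈ E :=
  hE g ⟨conj_mem_cm hx, le_normalizer_of_hs hP hE hEP hg⟩

theorem eq_one_of_coprime {z : G} (hz : ∃ k, z ^ p ^ k = 1) {m : ℕ} (hm : m.Coprime p) (h : z ^ m = 1) : z = 1 := by
  obtain ⟨k, hk⟩ := hz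
  exact orderOf_eq_one_iff.1 (Nat.Coprime.eq_one_of_dvd
    ((hm.symm.pow_left k).coprime_dvd_left (orderOf_dvd_of_pow_eq_one hk)) (orderOf_dvd_of_pow_eq_one h))

theorem mem_zpowers_pow {v : G} {m : ℕ} (h : (orderOf v).Coprime m) : v ∈ Subgroup.zpowers (v ^ m) := by
  obtain ⟨k, hk⟩ := exists_pow_eq_self_of_coprime h.symm
  exact ⟨(k : ℤ), by simpa using hk⟩

/-- A coprime element centralizing `C` and acting trivially on `x` modulo `C` fixes `x`. -/
theorem fix_of_acts {C : Subgroup G} (hC : IsPGroup p C) {v x : G} (hv : ∀ c ∈ C, v * c * v⁻¹ = c)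
    (hcop : (orderOf v).Coprime p) (hx : ⁅v, x⁆ ∈ C) : v * x * v⁻¹ = x := by
  set c := ⁅v, x⁆ with hc
  have hk : ∀ k : ℕ, v ^ k * x * (v ^ k)⁻¹ = c ^ k * x := by
    intro k
    induction k with
    | zero => simp
    | succ k ih =>
      rw [show v ^ (k + 1) * x * (v ^ (k + 1))⁻¹ = v * (v ^ k * x * (v ^ k)⁻¹) * v⁻¹ by rw [pow_succ']; group, ih,
        show v * (c ^ k * x) * v⁻¹ = (v * c ^ k * v⁻¹) * (v * x * v⁻¹) by group, hv _ (pow_mem hx k),
        show v * x * v⁻¹ = c * x by rw [hc, commutatorElement_def]; group, ← mul_assoc, ← pow_succ]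
  have h := hk (orderOf v)
  rw [pow_orderOf_eq_one, one_mul, inv_one, mul_one, eq_comm, mul_eq_right] at h
  obtain ⟨j, hj⟩ := hC ⟨c, hx⟩
  have h1 : c = 1 := eq_one_of_coprime ⟨j, by simpa using congrArg Subtype.val hj⟩ hcop h
  rw [show v * x * v⁻¹ = c * x by rw [hc, commutatorElement_def]; group, h1, one_mul]

theorem card_map_quotient {K : Type*} [Group K] {W : Subgroup K} [W.Normal] (V : Subgroup K) :
    Nat.card (V.map (QuotientGroup.mk' W)) = W.relIndex V := by
  conv_rhs => rw [← QuotientGroup.ker_mk' W, Subgroup.relIndex_ker]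

/-- The `(p - 1)`-st power acts trivially on a section of order `p`. -/
theorem pow_acts_mod {W V : Subgroup G} (hWV : W ≤ V) (hidx : W.relIndex V = p)
    (hVW : V ≤ Subgroup.normalizer (W : Set G)) {w : G} (hwV : w ∈ Subgroup.normalizer (V : Set G))
    (hwW : w ∈ Subgroup.normalizer (W : Set G)) {x : G} (hx : x ∈ V) : ⁅w ^ (p - 1), x⁆ ∈ W := by
  set H := Subgroup.normalizer (V : Set G) ⊓ Subgroup.normalizer (W : Set G)
  have hVH : V ≤ H := le_inf Subgroup.le_normalizer hVW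
  haveI : (W.subgroupOf H).Normal := (Subgroup.normal_subgroupOf_iff_le_normalizer (hWV.trans hVH)).2 inf_le_right
  haveI : (V.subgroupOf H).Normal := (Subgroup.normal_subgroupOf_iff_le_normalizer hVH).2 inf_le_left
  set q := QuotientGroup.mk' (W.subgroupOf H)
  set B := (V.subgroupOf H).map q
  haveI : B.Normal := Subgroup.Normal.map inferInstance q (QuotientGroup.mk'_surjective _)
  have hcard : Nat.card B = p := by rw [card_map_quotient, Subgroup.relIndex_subgroupOf hVH, hidx]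
  haveI : IsCyclic B := Supersolvable.isCyclic_of_prime_card (hcard ▸ hp.out)
  have h := (Supersolvable.cyclic_normal_centralized B).2 (q ⟨w, hwV, hwW⟩)
  rw [hcard, Nat.totient_prime hp.out] at h
  have h1 := h (q ⟨x, hVH hx⟩) ⟨⟨x, hVH hx⟩, hx, rfl⟩
  have h2 : q ⁅(⟨w, hwV, hwW⟩ : H) ^ (p - 1), ⟨x, hVH hx⟩⁆ = 1 := by
    rw [map_commutatorElement, map_pow]
    exact commutatorElement_eq_one_iff_mul_comm.2 h1.symm
  have h3 := Subgroup.mem_subgroupOf.1 ((QuotientGroup.eq_one_iff (N := W.subgroupOf H) _).1 h2)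
  exact h3

/-- The derived subgroup acts trivially on a normal section of order `p`. -/
theorem commutator_acts_mod {W V : Subgroup G} [W.Normal] [V.Normal] (hidx : W.relIndex V = p) {w : G}
    (hw : w ∈ commutator G) {x : G} (hx : x ∈ V) : ⁅w, x⁆ ∈ W := by
  set q := QuotientGroup.mk' W
  set B := V.map q
  haveI : B.Normal := Subgroup.Normal.map inferInstance q (QuotientGroup.mk'_surjective _)
  have hcard : Nat.card B = p := by rw [card_map_quotient, hidx]
  haveI : IsCyclic B := Supersolvable.isCyclic_of_prime_card (hcard ▸ hp.out)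
  have hq : q w ∈ commutator (G ⧸ W) := by
    rw [commutator_def, ← Subgroup.map_top_of_surjective q (QuotientGroup.mk'_surjective W),
      ← Subgroup.map_commutator]
    exact ⟨w, hw, rfl⟩
  have h1 := (Supersolvable.cyclic_normal_centralized B).1 hq (q x) ⟨x, hx, rfl⟩
  have h2 : q ⁅w, x⁆ = 1 := by
    rw [map_commutatorElement]
    exact commutatorElement_eq_one_iff_mul_comm.2 h1.symm
  exact (QuotientGroup.eq_one_iff _).1 h2

theorem relIndex_sup_zpowers {C : Subgroup G} {x : G} (hxC : x ∈ Subgroup.normalizer (C : Set G)) (hx : x ∉ C)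
    (hxp : x ^ p ∈ C) : C.relIndex (C ⊔ Subgroup.zpowers x) = p := by
  set H := C ⊔ Subgroup.zpowers x
  have hH : H ≤ Subgroup.normalizer (C : Set G) := sup_le Subgroup.le_normalizer (Subgroup.zpowers_le.2 hxC)
  haveI : (C.subgroupOf H).Normal := (Subgroup.normal_subgroupOf_iff_le_normalizer le_sup_left).2 hH
  set xH : H := ⟨x, Subgroup.mem_sup_right (Subgroup.mem_zpowers x)⟩
  set xb : H ⧸ C.subgroupOf H := QuotientGroup.mk xH
  have htop : (⊤ : Subgroup (H ⧸ C.subgroupOf H)) ≤ Subgroup.zpowers xb := by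
    intro q _
    obtain ⟨⟨h, hh⟩, rfl⟩ := QuotientGroup.mk_surjective q
    obtain ⟨c, hc, z, hz, rfl⟩ : ∃ c ∈ C, ∃ z ∈ Subgroup.zpowers x, h = c * z := by
      have h' : h ∈ ((C ⊔ Subgroup.zpowers x : Subgroup G) : Set G) := hh
      rw [Subgroup.coe_mul_of_right_le_normalizer_left C _ (Subgroup.zpowers_le.2 hxC)] at h'
      obtain ⟨c, hc, z, hz, e⟩ := h'
      exact ⟨c, hc, z, hz, e.symm⟩
    obtain ⟨k, rfl⟩ := Subgroup.mem_zpowers_iff.1 hz
    refine ⟨k, ?_⟩
    show xb ^ k = _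
    rw [show (⟨c * x ^ k, hh⟩ : H) = ⟨c, Subgroup.mem_sup_left hc⟩ * xH ^ k from Subtype.ext (by simp [xH]),
      QuotientGroup.mk_mul, (QuotientGroup.eq_one_iff (N := C.subgroupOf H) ⟨c, Subgroup.mem_sup_left hc⟩).2
        (show c ∈ C from hc), one_mul, QuotientGroup.mk_zpow]
  have hord : orderOf xb = p := orderOf_eq_prime (by
      rw [← QuotientGroup.mk_pow]
      exact (QuotientGroup.eq_one_iff _).2 (by rw [Subgroup.mem_subgroupOf]; simpa [xH] using hxp))
    (fun e => hx (Subgroup.mem_subgroupOf.1 ((QuotientGroup.eq_one_iff _).1 e)))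
  rw [Subgroup.relIndex, Subgroup.index_eq_card, ← Subgroup.card_top (G := H ⧸ C.subgroupOf H),
    ← top_le_iff.1 htop, Nat.card_zpowers, hord]

/-- Two commuting ways to fix `x`: the power `w ^ (p - 1)` and the derived subgroup. -/
theorem fix_step {C : Subgroup G} (hC : IsPGroup p C) {w v x : G} (hv : v = w ^ (p - 1))
    (hcop : (orderOf w).Coprime p) (hvC : ∀ c ∈ C, v * c * v⁻¹ = c) (hwC : w ∈ Subgroup.normalizer (C : Set G))
    (hxC : x ∈ Subgroup.normalizer (C : Set G)) (hxp : x ^ p ∈ C)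
    (hwx : w * x * w⁻¹ ∈ C ⊔ Subgroup.zpowers x) : v * x * v⁻¹ = x := by
  by_cases hx : x ∈ C
  · exact hvC x hx
  refine fix_of_acts hC hvC (hcop.coprime_dvd_left ?_) ?_
  · rw [hv]; exact orderOf_pow_dvd _
  rw [hv]
  refine pow_acts_mod le_sup_left (relIndex_sup_zpowers hxC hx hxp)
    (sup_le Subgroup.le_normalizer (Subgroup.zpowers_le.2 hxC)) ?_ hwC (Subgroup.mem_sup_right (Subgroup.mem_zpowers x))
  refine Local.mem_normalizer_of_map_conj_eq (Subgroup.eq_of_le_of_card_ge ?_ (card_cm w _).ge)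
  show cm w (C ⊔ Subgroup.zpowers x) ≤ _
  rw [cm, Subgroup.map_sup, MonoidHom.map_zpowers]
  exact sup_le ((Local.map_conj_eq_of_mem_normalizer hwC).le.trans le_sup_left) (Subgroup.zpowers_le.2 hwx)

variable {P : Subgroup G} {a : ℕ}

/-- A small element lies in an H-subgroup inside `C ⊔ ⟨x⟩`. -/
theorem exists_hs (hP : IsPGroup p P) (ha : 1 ≤ a) (hfam : Fam (p ^ a) P) {C : Subgroup G} (hCP : C ≤ P)
    (hC : p ^ a ≤ Nat.card C) {x : G} (hx : x ∈ P) (hxs : orderOf x ∣ Small.smallExp p) :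
    ∃ E : Subgroup G, x ∈ E ∧ E ≤ C ⊔ Subgroup.zpowers x ∧ E ≤ P ∧ HS E := by
  obtain ⟨k, hk⟩ := hP.to_le (Subgroup.zpowers_le.2 hx) |>.exists_card_eq
  rw [Nat.card_zpowers] at hk
  set K := C ⊔ Subgroup.zpowers x
  have hKP : K ≤ P := sup_le hCP (Subgroup.zpowers_le.2 hx)
  obtain ⟨b, hb⟩ := (hP.to_le hKP).exists_card_eq
  by_cases hka : k ≤ a
  · have hab : a ≤ b := by
      have h1 := hC.trans (Subgroup.card_le_of_le (le_sup_left : C ≤ K))
      rw [hb] at h1
      exact (Nat.pow_le_pow_iff_right hp.out.one_lt).1 h1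
    obtain ⟨E, hE, hxE⟩ := Sylow.exists_subgroup_card_pow_prime_le (G := K) p (n := k) (m := a)
      (hb ▸ pow_dvd_pow p hab) ((Subgroup.zpowers x).subgroupOf K) (by
        rw [Nat.card_congr (Subgroup.subgroupOfEquivOfLe le_sup_right).toEquiv, Nat.card_zpowers, hk]) hka
    refine ⟨E.map K.subtype, ⟨⟨x, Subgroup.mem_sup_right (Subgroup.mem_zpowers x)⟩, hxE (Subgroup.mem_zpowers x), rfl⟩,
      Subgroup.map_subtype_le _, (Subgroup.map_subtype_le _).trans hKP, hfam _ ((Subgroup.map_subtype_le _).trans hKP) (Or.inl ?_)⟩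
    rw [Subgroup.card_map_of_injective K.subtype_injective, hE]
  · rw [hk] at hxs
    unfold Small.smallExp at hxs
    split at hxs
    · rename_i h2
      subst h2
      rw [show (4 : ℕ) = 2 ^ 2 from rfl, Nat.pow_dvd_pow_iff_le_right (by norm_num)] at hxs
      obtain rfl : a = 1 := by omega
      obtain rfl : k = 2 := by omega
      exact ⟨Subgroup.zpowers x, Subgroup.mem_zpowers x, le_sup_right, Subgroup.zpowers_le.2 hx,
        hfam _ (Subgroup.zpowers_le.2 hx) (Or.inr ⟨pow_one 2, by rw [Nat.card_zpowers, hk]; norm_num⟩)⟩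
    · exact absurd ((Nat.pow_dvd_pow_iff_le_right hp.out.one_lt).1 (hxs.trans (pow_one p).symm.dvd)) (by omega)

theorem conj_mem_sup (hP : IsPGroup p P) (ha : 1 ≤ a) (hfam : Fam (p ^ a) P) {C : Subgroup G} (hCP : C ≤ P)
    (hC : p ^ a ≤ Nat.card C) {x g : G} (hx : x ∈ P) (hxs : orderOf x ∣ Small.smallExp p)
    (hg : g * x * g⁻¹ ∈ P) : g * x * g⁻¹ ∈ C ⊔ Subgroup.zpowers x := by
  obtain ⟨E, hxE, hEK, hEP, hE⟩ := exists_hs hP ha hfam hCP hC hx hxs
  exact hEK (mem_of_hs hP hE hEP hxE hg)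

/-- An element normalizing a cyclic subgroup of order `p ^ a` has its `(p - 1)`-st power centralizing every
subgroup of `P` it normalizes. -/
theorem pow_centralizes (hP : IsPGroup p P) (ha : 1 ≤ a) (hfam : Fam (p ^ a) P) {C : Subgroup G} (hCP : C ≤ P)
    [IsCyclic C] (hC : Nat.card C = p ^ a) {U : Subgroup G} (hU : U ≤ P) {w : G}
    (hwU : w ∈ Subgroup.normalizer (U : Set G)) (hwC : w ∈ Subgroup.normalizer (C : Set G))
    (hcop : (orderOf w).Coprime p) : w ^ (p - 1) ∈ Subgroup.centralizer (U : Set G) := by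
  set v := w ^ (p - 1) with hv
  have hPC : P ≤ Subgroup.normalizer (C : Set G) := le_normalizer_of_hs hP (hfam C hCP (Or.inl hC)) hCP
  have hCp := hP.to_le hCP
  have hvcop : (orderOf v).Coprime p := hcop.coprime_dvd_left (orderOf_pow_dvd _)
  -- `v` centralizes `C`
  have hvC : ∀ c ∈ C, v * c * v⁻¹ = c := by
    intro c hc
    set N := Subgroup.normalizer (C : Set G)
    have hCN : C ≤ N := Subgroup.le_normalizer
    haveI : (C.subgroupOf N).Normal := Subgroup.normal_in_normalizer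
    haveI : IsCyclic (C.subgroupOf N) := isCyclic_of_surjective (Subgroup.subgroupOfEquivOfLe hCN).symm.toMonoidHom
      (Subgroup.subgroupOfEquivOfLe hCN).symm.surjective
    have h := (Supersolvable.cyclic_normal_centralized (C.subgroupOf N)).2 (⟨w, hwC⟩ : N)
    rw [Nat.card_congr (Subgroup.subgroupOfEquivOfLe hCN).toEquiv, hC,
      Nat.totient_prime_pow hp.out (by omega), mul_comm, pow_mul] at h
    obtain ⟨z, hz⟩ := Subgroup.mem_zpowers_iff.1 (mem_zpowers_pow (v := (⟨w, hwC⟩ : N) ^ (p - 1)) (m := p ^ (a - 1)) (by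
      refine (Nat.Coprime.pow_right _ ?_)
      rw [← Subgroup.orderOf_coe, Subgroup.coe_pow]
      exact hvcop))
    have h2 := zpow_mem h z
    rw [hz] at h2
    have h3 := congrArg Subtype.val (h2 ⟨c, hCN hc⟩ (show (⟨c, hCN hc⟩ : N) ∈ C.subgroupOf N from hc))
    simp only [Subgroup.coe_mul, Subgroup.coe_pow] at h3
    rw [← hv] at h3
    rw [← h3, mul_inv_cancel_right]
  -- small elements of `U` are fixed
  have hsmall : ∀ x ∈ U, x ^ Small.smallExp p = 1 → v * x * v⁻¹ = x := by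
    intro x hx hxs
    have hxo : orderOf x ∣ Small.smallExp p := orderOf_dvd_of_pow_eq_one hxs
    have hxP := hU hx
    have hUc : ∀ y ∈ U, w * y * w⁻¹ ∈ P := fun y hy => hU ((Subgroup.mem_normalizer_iff.1 hwU y).1 hy)
    have hxpp : (x ^ p) ^ p = 1 := by
      rw [← pow_mul]
      refine orderOf_dvd_iff_pow_eq_one.1 (hxo.trans ?_)
      unfold Small.smallExp
      split
      · rename_i h2; subst h2; norm_num
      · exact Dvd.intro p rfl
    have hxpo : orderOf (x ^ p) ∣ Small.smallExp p := (orderOf_pow_dvd _).trans hxo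
    -- first the `p`-th power
    have h1 : v * x ^ p * v⁻¹ = x ^ p := fix_step hCp hv hcop hvC hwC (hPC (pow_mem hxP p)) (hxpp ▸ one_mem _)
      (conj_mem_sup hP ha hfam hCP hC.ge (pow_mem hxP p) hxpo (hUc _ (pow_mem hx p)))
    set C₁ := C ⊔ Subgroup.zpowers (x ^ p)
    have hC₁P : C₁ ≤ P := sup_le hCP (Subgroup.zpowers_le.2 (pow_mem hxP p))
    have hnorm : ∀ g : G, g ∈ Subgroup.normalizer (C : Set G) → g * x ^ p * g⁻¹ ∈ P →
        g ∈ Subgroup.normalizer (C₁ : Set G) := by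
      intro g hg hgx
      refine Local.mem_normalizer_of_map_conj_eq (Subgroup.eq_of_le_of_card_ge ?_ (card_cm g _).ge)
      show cm g C₁ ≤ _
      rw [cm, Subgroup.map_sup, MonoidHom.map_zpowers]
      exact sup_le ((Local.map_conj_eq_of_mem_normalizer hg).le.trans le_sup_left)
        (Subgroup.zpowers_le.2 (conj_mem_sup hP ha hfam hCP hC.ge (pow_mem hxP p) hxpo hgx))
    have hvC₁ : C₁ ≤ Subgroup.centralizer ({v} : Set G) := sup_le
      (fun c hc => Subgroup.mem_centralizer_singleton_iff.2 (mul_inv_eq_iff_eq_mul.1 (hvC c hc)).symm)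
      (Subgroup.zpowers_le.2 (Subgroup.mem_centralizer_singleton_iff.2 (mul_inv_eq_iff_eq_mul.1 h1).symm))
    refine fix_step (hP.to_le hC₁P) hv hcop (fun c hc => ?_) (hnorm w hwC (hUc _ (pow_mem hx p)))
      (hnorm x (hPC hxP) (mul_mem (mul_mem hxP (pow_mem hxP p)) (inv_mem hxP)))
      (Subgroup.mem_sup_right (Subgroup.mem_zpowers _))
      ((sup_le (le_sup_left.trans le_sup_left) le_sup_right : C ⊔ Subgroup.zpowers x ≤ C₁ ⊔ Subgroup.zpowers x)
        (conj_mem_sup hP ha hfam hCP hC.ge hxP hxo (hUc x hx)))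
    exact mul_inv_eq_iff_eq_mul.2 (Subgroup.mem_centralizer_singleton_iff.1 (hvC₁ hc)).symm
  have hvU : v ∈ Subgroup.normalizer (U : Set G) := pow_mem hwU _
  set α : MulAut U := U.normalizerMonoidHom ⟨v, hvU⟩
  have hα : α = 1 := Small.eq_one_of_fixes_small (hP.to_le hU) (hvcop.coprime_dvd_left (by
      have := orderOf_map_dvd U.normalizerMonoidHom (⟨v, hvU⟩ : Subgroup.normalizer (U : Set G))
      rwa [← Subgroup.orderOf_coe] at this))
    fun x hx => Subtype.ext (hsmall x x.2 (by simpa using congrArg Subtype.val hx))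
  intro u hu
  have h := congrArg Subtype.val (DFunLike.congr_fun hα ⟨u, hu⟩)
  have h' : v * u * v⁻¹ = u := h
  exact (mul_inv_eq_iff_eq_mul.1 h').symm

end CfsgLib.HSub
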