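import Cfsg.Agent.Lib.HSub.Complement
import Cfsg.Agent.Lib.Solvable.Huppert
import Cfsg.Agent.Lib.Blocks.Orth

/-!
Supersolvability from H-subgroups of one intermediate order in each noncyclic Sylow subgroup of a normal subgroup.
-/

set_option autoImplicit false
set_option linter.unusedSectionVars false

namespace CfsgLib.HSub

open CfsgLib Cfsg CfsgLib.StrongFusion
open scoped Pointwise commutatorElement

universe u

/-- The hypothesis on the Sylow subgroups of `E`. -/
def Hyp {G : Type u} [Group G] (E : Subgroup G) : Prop :=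
  ∀ (p : ℕ), p.Prime → ∀ P : Subgroup G, P ≤ E → IsPGroup p P → ¬ p ∣ P.relIndex E → ¬ IsCyclic P →
    ∃ a : ℕ, 1 ≤ a ∧ p ^ a < Nat.card P ∧ Fam (p ^ a) P

section action

variable {G : Type u} [Group G] [Finite G] {p : ℕ} [hp : Fact p.Prime]

theorem exists_fixed {N R : Subgroup G} [N.Normal] (hN : IsPGroup p N) (hN0 : N ≠ ⊥) (hR : IsPGroup p R) :
    ∃ a ∈ N, a ≠ 1 ∧ R ≤ Subgroup.centralizer ({a} : Set G) := by
  set K := N ⊔ R
  have hK : IsPGroup p K := hN.to_sup_of_normal_left hR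
  haveI : Group.IsNilpotent K := hK.isNilpotent
  have h := inf_center_ne_bot_of_nilpotent (N := N.subgroupOf K) (by
    rw [Ne, Subgroup.subgroupOf_eq_bot, disjoint_iff, inf_eq_left.2 (le_sup_left : N ≤ K)]; exact hN0)
  obtain ⟨⟨a, haK⟩, ha, ha1⟩ := (Subgroup.bot_or_exists_ne_one _).resolve_left h
  exact ⟨a, ha.1, fun e => ha1 (Subtype.ext e), fun r hr => Subgroup.mem_centralizer_singleton_iff.2
    (congrArg Subtype.val (Subgroup.mem_center_iff.1 ha.2 (⟨r, Subgroup.mem_sup_right hr⟩ : K)))⟩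

/-- The derived subgroup centralizes a minimal normal `p`-subgroup if its `p'`-elements do. -/
theorem commutator_le_centralizer {N : Subgroup G} [N.Normal] (hN : IsPGroup p N) (hN0 : N ≠ ⊥)
    (hmin : ∀ L : Subgroup G, L.Normal → L ≤ N → L = ⊥ ∨ L = N)
    (h : ∀ w ∈ commutator G, (orderOf w).Coprime p → w ∈ Subgroup.centralizer (N : Set G)) :
    commutator G ≤ Subgroup.centralizer (N : Set G) := by
  set H := commutator G
  obtain ⟨R⟩ := (inferInstance : Nonempty (Sylow p H))
  obtain ⟨a, haN, ha1, haR⟩ := exists_fixed hN hN0 (R := (R : Subgroup H).map H.subtype) (R.2.map _)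
  set Cs : Subgroup H := (Subgroup.centralizer (N : Set G)).subgroupOf H
  have hsup := sylow_sup_eq_top_of_pResidual_le R (N := Cs)
    (pResidual_le fun w hw => h (w : G) w.2 (by rwa [Subgroup.orderOf_coe]))
  have hHa : H ≤ Subgroup.centralizer ({a} : Set G) := by
    have hle : Cs ⊔ (R : Subgroup H) ≤ (Subgroup.centralizer ({a} : Set G)).subgroupOf H :=
      sup_le (fun c hc => Subgroup.mem_centralizer_singleton_iff.2 (hc a haN).symm)
        (fun r hr => haR ⟨r, hr, rfl⟩)
    intro x hx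
    exact hle (hsup ▸ Subgroup.mem_top (⟨x, hx⟩ : H))
  rcases hmin (N ⊓ Subgroup.centralizer (H : Set G)) inferInstance inf_le_left with e | e
  · refine absurd (Subgroup.mem_bot.1 (e.le ⟨haN, fun x hx => ?_⟩)) ha1
    exact Subgroup.mem_centralizer_singleton_iff.1 (hHa hx)
  · exact fun x hx y hy => ((e.ge hy).2 x hx).symm

/-- An abelian action of exponent dividing `p - 1` on a minimal normal `p`-subgroup is by scalars. -/
theorem card_eq_of_exponent {N : Subgroup G} [hn : N.Normal] (hN : IsPGroup p N) (hN0 : N ≠ ⊥)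
    (hmin : ∀ L : Subgroup G, L.Normal → L ≤ N → L = ⊥ ∨ L = N)
    (h : ∀ w ∈ commutator G, (orderOf w).Coprime p → w ∈ Subgroup.centralizer (N : Set G))
    (h' : ∀ w : G, (orderOf w).Coprime p → w ^ (p - 1) ∈ Subgroup.centralizer (N : Set G)) : Nat.card N = p := by
  have hG' := commutator_le_centralizer hN hN0 hmin h
  have hcomm : ∀ a ∈ N, ∀ b ∈ N, a * b = b * a := by
    rcases hmin (N ⊓ Subgroup.centralizer (N : Set G)) inferInstance inf_le_left with e | e
    · exfalso
      obtain ⟨a, haN, ha1, haR⟩ := exists_fixed hN hN0 hN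
      exact ha1 (Subgroup.mem_bot.1 (e.le ⟨haN, fun x hx => Subgroup.mem_centralizer_singleton_iff.1 (haR hx)⟩))
    · exact fun a ha b hb => (e.ge hb).2 a ha
  have hexp : ∀ a ∈ N, a ^ p = 1 := by
    let L : Subgroup G :=
      { carrier := {a | a ∈ N ∧ a ^ p = 1}
        one_mem' := ⟨one_mem _, one_pow _⟩
        mul_mem' := fun {a b} ha hb => ⟨mul_mem ha.1 hb.1, by
          rw [(show Commute a b from hcomm a ha.1 b hb.1).mul_pow, ha.2, hb.2, one_mul]⟩
        inv_mem' := fun {a} ha => ⟨inv_mem ha.1, by rw [inv_pow, ha.2, inv_one]⟩ }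
    haveI : L.Normal := ⟨fun a ha x => ⟨hn.conj_mem a ha.1 x, by rw [conj_pow, ha.2]; group⟩⟩
    rcases hmin L inferInstance (fun a ha => ha.1) with e | e
    · exfalso
      haveI : Nontrivial N := (Subgroup.nontrivial_iff_ne_bot N).2 hN0
      obtain ⟨k, hk, hc⟩ := hN.nontrivial_iff_card.1 inferInstance
      obtain ⟨⟨a, ha⟩, hao⟩ := exists_prime_orderOf_dvd_card' (G := N) p (hc ▸ dvd_pow_self p (by omega))
      rw [Subgroup.orderOf_mk] at hao
      have h1 : a = 1 := Subgroup.mem_bot.1 (e.le ⟨ha, hao ▸ pow_orderOf_eq_one a⟩)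
      rw [h1, orderOf_one] at hao
      exact hp.out.one_lt.ne hao
    · exact fun a ha => (e.ge ha).2
  have hpow : ∀ g : G, g ^ (p - 1) ∈ Subgroup.centralizer (N : Set G) := by
    intro g
    obtain ⟨z, w, hzw, hcom, ⟨k, hk⟩, hw, -, -⟩ := Blocks.exists_pPart hp.out g
    have hz : z ∈ Subgroup.centralizer (N : Set G) := by
      obtain ⟨a, haN, ha1, haR⟩ := exists_fixed hN hN0 (R := Subgroup.zpowers z)
        (IsPGroup.of_card (n := k) (by rw [Nat.card_zpowers, hk]))
      let L : Subgroup G := N ⊓ Subgroup.centralizer ({z} : Set G)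
      haveI : L.Normal := ⟨fun b hb x => ⟨hn.conj_mem b hb.1 x, Subgroup.mem_centralizer_singleton_iff.2 (by
        have hb2 := Subgroup.mem_centralizer_singleton_iff.1 hb.2
        have hc := hG' (Subgroup.commutator_mem_commutator (Subgroup.mem_top x⁻¹) (Subgroup.mem_top z)) b hb.1
        calc x * b * x⁻¹ * z = x * (b * ⁅x⁻¹, z⁆) * z * x⁻¹ := by simp only [commutatorElement_def]; group
          _ = x * (⁅x⁻¹, z⁆ * b) * z * x⁻¹ := by rw [hc]
          _ = z * x * z⁻¹ * (b * z) * x⁻¹ := by simp only [commutatorElement_def]; group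
          _ = z * (x * b * x⁻¹) := by rw [hb2]; group)⟩⟩
      rcases hmin L inferInstance inf_le_left with e | e
      · exact absurd (Subgroup.mem_bot.1 (e.le ⟨haN, Subgroup.mem_centralizer_singleton_iff.2
          (Subgroup.mem_centralizer_singleton_iff.1 (haR (Subgroup.mem_zpowers z))).symm⟩)) ha1
      · exact fun b hb => Subgroup.mem_centralizer_singleton_iff.1 (e.ge hb).2
    rw [← hzw, hcom.mul_pow]
    exact mul_mem (pow_mem hz _) (h' w ((hp.out.coprime_iff_not_dvd.2 hw).symm))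
  have hscal : ∀ g : G, ∃ k : ℕ, ∀ a ∈ N, g * a * g⁻¹ = a ^ k := by
    intro g
    obtain ⟨k, v, hv, hv1, hvk⟩ := Supersolvable.exists_scalar hN0 hcomm hexp g (hpow g)
    let E : Subgroup G :=
      { carrier := {a | a ∈ N ∧ g * a * g⁻¹ = a ^ k}
        mul_mem' := fun {a b} ha hb => ⟨mul_mem ha.1 hb.1, by
          rw [(show Commute a b from hcomm a ha.1 b hb.1).mul_pow, ← ha.2, ← hb.2]; group⟩
        one_mem' := ⟨one_mem _, by simp⟩
        inv_mem' := fun {a} ha => ⟨inv_mem ha.1, by rw [inv_pow, ← ha.2]; group⟩ }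
    haveI : E.Normal := by
      refine ⟨fun a ha x => ⟨hn.conj_mem a ha.1 x, ?_⟩⟩
      have hc := hG' (Subgroup.commutator_mem_commutator (Subgroup.mem_top g⁻¹) (Subgroup.mem_top x⁻¹)) a ha.1
      rw [conj_pow, ← ha.2]
      rw [show g * (x * a * x⁻¹) * g⁻¹ = x * g * (⁅g⁻¹, x⁻¹⁆ * a * ⁅g⁻¹, x⁻¹⁆⁻¹) * g⁻¹ * x⁻¹ by
        simp only [commutatorElement_def]; group, ← hc, mul_inv_cancel_right]
      group
    rcases hmin E inferInstance (fun a ha => ha.1) with e | e
    · exact absurd (Subgroup.mem_bot.1 (e.le ⟨hv, hvk⟩)) hv1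
    · exact ⟨k, fun a ha => (e.ge ha).2⟩
  obtain ⟨v, hv, hv1⟩ := N.bot_or_exists_ne_one.resolve_left hN0
  haveI : (Subgroup.zpowers v).Normal := ⟨fun a ha g => by
    obtain ⟨k, hk⟩ := hscal g
    rw [hk a (Subgroup.zpowers_le.2 hv ha)]
    exact pow_mem ha k⟩
  rcases hmin _ inferInstance (Subgroup.zpowers_le.2 hv) with e | e
  · exact absurd (Subgroup.zpowers_eq_bot.1 e) hv1
  · rw [← e, Nat.card_zpowers, orderOf_eq_prime (hexp v hv) hv1]

variable {P : Subgroup G} {a : ℕ}

/-- The derived subgroup centralizes `P` if all the H-subgroups and `C` are normal. -/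
theorem derived_centralizes [P.Normal] (hP : IsPGroup p P) (ha : 1 ≤ a) (hfam : Fam (p ^ a) P) {C : Subgroup G}
    (hCP : C ≤ P) [IsCyclic C] [hCn : C.Normal] (hC : Nat.card C = p ^ a) {w : G} (hw : w ∈ commutator G)
    (hcop : (orderOf w).Coprime p) : w ∈ Subgroup.centralizer (P : Set G) := by
  have hconj : ∀ g : G, ∀ y ∈ P, g * y * g⁻¹ ∈ P := fun g y hy => (inferInstance : P.Normal).conj_mem y hy g
  have hwC : ∀ c ∈ C, w * c * w⁻¹ = c := fun c hc => by
    rw [← (Supersolvable.cyclic_normal_centralized C).1 hw c hc, mul_inv_cancel_right]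
  have hnormal : ∀ (C₁ : Subgroup G), C₁.Normal → C ≤ C₁ → ∀ y ∈ P, orderOf y ∣ Small.smallExp p →
      (C₁ ⊔ Subgroup.zpowers y).Normal := by
    intro C₁ hC₁ hle y hy hys
    refine ⟨fun z hz g => ?_⟩
    have h1 : cm g (C₁ ⊔ Subgroup.zpowers y) ≤ C₁ ⊔ Subgroup.zpowers y := by
      rw [cm, Subgroup.map_sup, MonoidHom.map_zpowers]
      refine sup_le ((Local.map_conj_le fun c hc => hC₁.conj_mem c hc g).trans le_sup_left) (Subgroup.zpowers_le.2 ?_)
      exact (sup_le (hle.trans le_sup_left) le_sup_right : C ⊔ Subgroup.zpowers y ≤ C₁ ⊔ Subgroup.zpowers y)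
        (conj_mem_sup hP ha hfam hCP hC.ge hy hys (hconj g y hy))
    exact h1 (conj_mem_cm hz)
  have hstep : ∀ (C₁ : Subgroup G), C₁.Normal → C ≤ C₁ → C₁ ≤ P → (∀ c ∈ C₁, w * c * w⁻¹ = c) → ∀ y ∈ P,
      orderOf y ∣ Small.smallExp p → y ^ p ∈ C₁ → w * y * w⁻¹ = y := by
    intro C₁ hC₁ hle hC₁P hwC₁ y hy hys hyp
    by_cases hyC : y ∈ C₁
    · exact hwC₁ y hyC
    haveI := hC₁
    haveI := hnormal C₁ hC₁ hle y hy hys
    refine fix_of_acts (hP.to_le hC₁P) hwC₁ hcop (commutator_acts_mod (V := C₁ ⊔ Subgroup.zpowers y)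
      (relIndex_sup_zpowers (by rw [Subgroup.normalizer_eq_top]; trivial) hyC hyp) hw
      (Subgroup.mem_sup_right (Subgroup.mem_zpowers y)))
  have hsmall : ∀ x ∈ P, x ^ Small.smallExp p = 1 → w * x * w⁻¹ = x := by
    intro x hx hxs
    have hxo : orderOf x ∣ Small.smallExp p := orderOf_dvd_of_pow_eq_one hxs
    have hxpp : (x ^ p) ^ p = 1 := by
      rw [← pow_mul]
      refine orderOf_dvd_iff_pow_eq_one.1 (hxo.trans ?_)
      unfold Small.smallExp
      split
      · rename_i h2; subst h2; norm_num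
      · exact Dvd.intro p rfl
    have hxpo : orderOf (x ^ p) ∣ Small.smallExp p := (orderOf_pow_dvd _).trans hxo
    have h1 := hstep C hCn le_rfl hCP hwC _ (pow_mem hx p) hxpo (hxpp ▸ one_mem _)
    have hle : C ⊔ Subgroup.zpowers (x ^ p) ≤ Subgroup.centralizer ({w} : Set G) := sup_le
      (fun c hc => Subgroup.mem_centralizer_singleton_iff.2 (mul_inv_eq_iff_eq_mul.1 (hwC c hc)).symm)
      (Subgroup.zpowers_le.2 (Subgroup.mem_centralizer_singleton_iff.2 (mul_inv_eq_iff_eq_mul.1 h1).symm))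
    exact hstep _ (hnormal C hCn le_rfl _ (pow_mem hx p) hxpo) le_sup_left
      (sup_le hCP (Subgroup.zpowers_le.2 (pow_mem hx p)))
      (fun c hc => mul_inv_eq_iff_eq_mul.2 (Subgroup.mem_centralizer_singleton_iff.1 (hle hc)).symm)
      x hx hxo (Subgroup.mem_sup_right (Subgroup.mem_zpowers _))
  set α : MulAut P := MulAut.conjNormal w
  have hα : α = 1 := Small.eq_one_of_fixes_small hP (hcop.coprime_dvd_left (orderOf_map_dvd MulAut.conjNormal w))
    fun x hx => Subtype.ext (by
      rw [MulAut.conjNormal_apply]; exact hsmall x x.2 (by simpa using congrArg Subtype.val hx))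
  intro u hu
  have h := congrArg Subtype.val (DFunLike.congr_fun hα ⟨u, hu⟩)
  have h' : w * u * w⁻¹ = u := (MulAut.conjNormal_apply (H := P) w ⟨u, hu⟩).symm.trans h
  exact (mul_inv_eq_iff_eq_mul.1 h').symm

/-- The index of a maximal subgroup not containing `P`. -/
theorem index_prime_of_fam [hPn : P.Normal] (hP : IsPGroup p P) (ha : 1 ≤ a) (hlt : p ^ a < Nat.card P)
    (hfam : Fam (p ^ a) P) {M : Subgroup G} (hM : IsCoatom M) (hPM : ¬ P ≤ M) : M.index.Prime := by
  set T := M ⊓ P with hT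
  have hMP : M ⊔ P = ⊤ := hM.2 _ (lt_of_le_of_ne le_sup_left fun e => hPM (e ▸ le_sup_right))
  have hTP : T < P := lt_of_le_of_ne inf_le_right fun e => hPM (e ▸ inf_le_left)
  haveI hTn : T.Normal := by
    refine Subgroup.normalizer_eq_top_iff.1 (hM.2 _ (lt_of_le_of_ne ?_ fun e => ?_))
    · exact fun m hm => Local.mem_normalizer_of_map_conj_eq (Subgroup.eq_of_le_of_card_ge (Local.map_conj_le
        fun t ht => Subgroup.mem_inf.2 ⟨mul_mem (mul_mem hm ht.1) (inv_mem hm), hPn.conj_mem t ht.2 m⟩) (card_cm m T).ge)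
    · obtain ⟨y, hy, hyT⟩ := SetLike.exists_of_lt (WeakClosed.lt_inf_normalizer' hP hTP.le hTP.ne)
      exact hyT ⟨e.ge hy.2, hy.1⟩
  have hidx : M.index = T.relIndex P := by
    have h1 : T.relIndex M * M.index = T.relIndex P * P.index := by
      rw [← Subgroup.relIndex_top_right M, ← Subgroup.relIndex_top_right P,
        Subgroup.relIndex_mul_relIndex _ _ _ inf_le_left le_top, Subgroup.relIndex_mul_relIndex _ _ _ inf_le_right le_top]
    have h2 : P.index = T.relIndex M := by
      rw [hT, Subgroup.inf_relIndex_left, ← Subgroup.relIndex_sup_right M P, hMP, Subgroup.relIndex_top_right]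
    rw [h2, mul_comm (T.relIndex P)] at h1
    exact Nat.eq_of_mul_eq_mul_left (Nat.pos_of_ne_zero (h2 ▸ Subgroup.index_ne_zero_of_finite)) h1
  have hchief : ∀ L : Subgroup G, L.Normal → T ≤ L → L ≤ P → L = T ∨ L = P := by
    intro L hL hTL hLP
    by_cases hLM : L ≤ M
    · exact .inl (le_antisymm (le_inf hLM hLP) hTL)
    refine .inr (le_antisymm hLP fun x hx => ?_)
    have htop : M ⊔ L = ⊤ := hM.2 _ (lt_of_le_of_ne le_sup_left fun e => hLM (e ▸ le_sup_right))
    obtain ⟨m, hm, l, hl, rfl⟩ := Subgroup.mem_sup_of_normal_right.1 (htop ▸ Subgroup.mem_top x)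
    have hmP : m ∈ P := by simpa using mul_mem hx (inv_mem (hLP hl))
    exact mul_mem (hTL ⟨hm, hmP⟩) hl
  have hFn : ∀ F : Subgroup G, F ≤ P → HS F → F.Normal := fun F hF hHS =>
    ⟨fun f hf g => mem_of_hs hP hHS hF hf (hPn.conj_mem f (hF hf) g)⟩
  rw [hidx]
  suffices hp' : T.relIndex P = p by rw [hp']; exact hp.out
  by_cases hI : ∃ x ∈ P, x ∉ T ∧ orderOf x ∣ p ^ a
  · obtain ⟨x₀, hx₀P, hx₀T, hx₀o⟩ := hI
    -- adjust to an element whose `p`-th power is in `T`
    have hex : ∃ i, x₀ ^ p ^ i ∈ T := by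
      obtain ⟨k, hk⟩ := hP ⟨x₀, hx₀P⟩
      exact ⟨k, by rw [show x₀ ^ p ^ k = 1 by simpa using congrArg Subtype.val hk]; exact one_mem _⟩
    classical
    have h0 : Nat.find hex ≠ 0 := fun h => hx₀T (by have := Nat.find_spec hex; rwa [h, pow_zero, pow_one] at this)
    obtain ⟨i, hi⟩ := Nat.exists_eq_succ_of_ne_zero h0
    set x := x₀ ^ p ^ i with hxdef
    have hxT : x ∉ T := Nat.find_min hex (by omega)
    have hxp : x ^ p ∈ T := by
      have := Nat.find_spec hex
      rwa [hi, pow_succ, pow_mul] at this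
    have hxP : x ∈ P := pow_mem hx₀P _
    set K := T ⊔ Subgroup.zpowers x
    have hK : T.relIndex K = p := relIndex_sup_zpowers (by rw [Subgroup.normalizer_eq_top]; trivial) hxT hxp
    suffices hKP : K = P by rw [← hKP]; exact hK
    have hKP : K ≤ P := sup_le inf_le_right (Subgroup.zpowers_le.2 hxP)
    obtain ⟨k, hka, hk⟩ := (Nat.dvd_prime_pow hp.out).1 ((orderOf_pow_dvd (p ^ i)).trans hx₀o : orderOf x ∣ p ^ a)
    obtain ⟨b, hb⟩ := (hP.to_le hKP).exists_card_eq
    obtain ⟨c, hc⟩ := hP.exists_card_eq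
    have hsub : ∀ F : Subgroup G, F ≤ P → Nat.card F = p ^ a → x ∈ F → F ⊔ T = P := fun F hF hFc hxF => by
      haveI := hFn F hF (hfam F hF (Or.inl hFc))
      rcases hchief (F ⊔ T) (Subgroup.sup_normal _ _) le_sup_right (sup_le hF inf_le_right) with e | e
      · exact absurd (e.le (Subgroup.mem_sup_left hxF)) hxT
      · exact e
    by_cases hab : a ≤ b
    · obtain ⟨F, hF, hxF⟩ := Sylow.exists_subgroup_card_pow_prime_le (G := K) p (n := k) (m := a)
        (hb ▸ pow_dvd_pow p hab) ((Subgroup.zpowers x).subgroupOf K) (by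
          rw [Nat.card_congr (Subgroup.subgroupOfEquivOfLe le_sup_right).toEquiv, Nat.card_zpowers, hk]) hka
      have h := hsub (F.map K.subtype) ((Subgroup.map_subtype_le _).trans hKP)
        (by rw [Subgroup.card_map_of_injective K.subtype_injective, hF])
        ⟨⟨x, Subgroup.mem_sup_right (Subgroup.mem_zpowers x)⟩, hxF (Subgroup.mem_zpowers x), rfl⟩
      exact le_antisymm hKP (h.ge.trans (sup_le (Subgroup.map_subtype_le _) le_sup_left))
    · exfalso
      obtain ⟨F, hF, hKF⟩ := Sylow.exists_subgroup_card_pow_prime_le (G := P) p (n := b) (m := a)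
        (hc ▸ pow_dvd_pow p ((Nat.pow_lt_pow_iff_right hp.out.one_lt).1 (hc ▸ hlt)).le) (K.subgroupOf P)
        (by rw [Nat.card_congr (Subgroup.subgroupOfEquivOfLe hKP).toEquiv, hb]) (by omega)
      have hKF' : K ≤ F.map P.subtype := fun y hy => ⟨⟨y, hKP hy⟩, hKF hy, rfl⟩
      have hFc : Nat.card (F.map P.subtype) = p ^ a := by
        rw [Subgroup.card_map_of_injective P.subtype_injective, hF]
      have h := hsub _ (Subgroup.map_subtype_le _) hFc (hKF' (Subgroup.mem_sup_right (Subgroup.mem_zpowers x)))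
      rw [sup_eq_left.2 ((le_sup_left : T ≤ K).trans hKF')] at h
      exact hlt.ne (hFc ▸ congrArg (fun S : Subgroup G => Nat.card S) h)
  · push Not at hI
    obtain ⟨x, hxP, hxT⟩ := SetLike.exists_of_lt hTP
    obtain ⟨k, hk⟩ := (hP.to_le (Subgroup.zpowers_le.2 hxP)).exists_card_eq
    rw [Nat.card_zpowers] at hk
    have hka : a < k := by
      by_contra hcon
      exact hI x hxP hxT (hk ▸ pow_dvd_pow p (by omega))
    set c := x ^ p ^ (k - a) with hc
    set C := Subgroup.zpowers c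
    have hCP : C ≤ P := Subgroup.zpowers_le.2 (pow_mem hxP _)
    have hC : Nat.card C = p ^ a := by
      rw [Nat.card_zpowers, hc, orderOf_pow_of_dvd (pow_ne_zero _ hp.out.ne_zero) (hk ▸ pow_dvd_pow p (by omega)),
        hk, Nat.pow_div (by omega) hp.out.pos, show k - (k - a) = a by omega]
    haveI : C.Normal := hFn C hCP (hfam C hCP (Or.inl hC))
    set π := QuotientGroup.mk' T
    have hπ := QuotientGroup.mk'_surjective T
    set N := P.map π
    haveI : N.Normal := hPn.map π hπ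
    have hN0 : N ≠ ⊥ := fun e => hTP.not_ge (by
      rw [Subgroup.map_eq_bot_iff, QuotientGroup.ker_mk'] at e; exact e)
    rw [← card_map_quotient]
    refine card_eq_of_exponent (hP.map π) hN0 (fun L hL hLN => ?_) ?_ ?_
    · rcases hchief (L.comap π) (hL.comap π) (fun t ht => by
          show π t ∈ L
          rw [show π t = 1 from (QuotientGroup.eq_one_iff t).2 ht]; exact one_mem _)
        ((Subgroup.comap_mono hLN).trans (by
          rw [Subgroup.comap_map_eq, QuotientGroup.ker_mk', sup_eq_left.2 hTP.le])) with e | e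
      · left; rw [← Subgroup.map_comap_eq_self_of_surjective hπ L, e, Subgroup.map_eq_bot_iff, QuotientGroup.ker_mk']
      · right; rw [← Subgroup.map_comap_eq_self_of_surjective hπ L, e]
    · intro wb hwb hcop
      obtain ⟨g, hg, rfl⟩ := (TransferControl.map_commutator_top hπ).ge hwb
      obtain ⟨z, w, hzw, -, ⟨j, hj⟩, hw, hzg, hwg⟩ := Blocks.exists_pPart hp.out g
      have hz1 : π z = 1 := by
        obtain ⟨i, rfl⟩ := Subgroup.mem_zpowers_iff.1 hzg
        refine orderOf_eq_one_iff.1 (Nat.Coprime.eq_one_of_dvd ((hcop.pow_right j).coprime_dvd_left ?_)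
          (hj ▸ orderOf_map_dvd π _))
        rw [map_zpow]
        exact orderOf_dvd_of_mem_zpowers ⟨i, rfl⟩
      have hwc := derived_centralizes hP ha hfam hCP hC ((Subgroup.zpowers_le.2 hg) hwg)
        ((hp.out.coprime_iff_not_dvd.2 hw).symm)
      rintro _ ⟨u, hu, rfl⟩
      rw [← hzw, map_mul, hz1, one_mul, ← map_mul, ← map_mul, hwc u hu]
    · intro wb hcop
      obtain ⟨g, rfl⟩ := hπ wb
      obtain ⟨z, w, hzw, -, ⟨j, hj⟩, hw, hzg, -⟩ := Blocks.exists_pPart hp.out g
      have hz1 : π z = 1 := by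
        obtain ⟨i, rfl⟩ := Subgroup.mem_zpowers_iff.1 hzg
        refine orderOf_eq_one_iff.1 (Nat.Coprime.eq_one_of_dvd ((hcop.pow_right j).coprime_dvd_left ?_)
          (hj ▸ orderOf_map_dvd π _))
        rw [map_zpow]
        exact orderOf_dvd_of_mem_zpowers ⟨i, rfl⟩
      have hwc := pow_centralizes hP ha hfam hCP hC le_rfl (w := w) (by rw [Subgroup.normalizer_eq_top]; trivial)
        (by rw [Subgroup.normalizer_eq_top]; trivial) ((hp.out.coprime_iff_not_dvd.2 hw).symm)
      rintro _ ⟨u, hu, rfl⟩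
      rw [← hzw, map_mul, hz1, one_mul, ← map_pow, ← map_mul, ← map_mul, hwc u hu]

theorem hs_map_quotient [hPn : P.Normal] (hP : IsPGroup p P) {q : ℕ} [hq : Fact q.Prime] (hqp : q ≠ p)
    {F : Subgroup G} (hF : IsPGroup q F) (hHS : HS F) : HS (F.map (QuotientGroup.mk' P)) := by
  set π := QuotientGroup.mk' P
  intro gb y hy
  obtain ⟨⟨_, ⟨f, hf, rfl⟩, rfl⟩, hy2⟩ := hy
  obtain ⟨g, rfl⟩ := QuotientGroup.mk'_surjective P gb
  set x := g * f * g⁻¹ with hxdef
  have hπx : (MulAut.conj (π g)).toMonoidHom (π f) = π x := by simp [hxdef]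
  rw [hπx] at hy2 ⊢
  set L := F ⊔ P
  set N := Subgroup.normalizer (F : Set G)
  obtain ⟨kf, hkf⟩ := hF.exists_card_eq
  obtain ⟨kp, hkp⟩ := hP.exists_card_eq
  have hidx : ∀ (A : Subgroup G), ¬ q ∣ A.relIndex (A ⊔ P) := by
    intro A hd
    have h1 : A.relIndex (A ⊔ P) ∣ Nat.card P := by
      refine Nat.dvd_of_mul_dvd_mul_left (Nat.card_pos (α := A)) ?_
      calc Nat.card A * A.relIndex (A ⊔ P) = Nat.card P * P.relIndex A := by
            rw [← Subgroup.relIndex_bot_left A, ← Subgroup.relIndex_bot_left P,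
              Subgroup.relIndex_mul_relIndex _ _ _ bot_le le_sup_left, ← Subgroup.relIndex_sup_right A P,
              Subgroup.relIndex_mul_relIndex _ _ _ bot_le le_sup_right]
        _ ∣ _ := by rw [mul_comm (Nat.card A)]; exact Nat.mul_dvd_mul_left _ (Subgroup.relIndex_dvd_card _ _)
    exact hqp ((Nat.prime_dvd_prime_iff_eq hq.out hp.out).1 (hq.out.dvd_of_dvd_pow (hkp ▸ hd.trans h1)))
  have hxL : cm x F ≤ L := by
    rintro _ ⟨w, hw, rfl⟩
    have h1 : π (x * w * x⁻¹) ∈ F.map π := by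
      rw [map_mul, map_mul, map_inv]
      exact (Subgroup.mem_normalizer_iff.1 hy2 _).1 ⟨w, hw, rfl⟩
    have h2 := Subgroup.mem_comap.2 h1
    rwa [Subgroup.comap_map_eq, QuotientGroup.ker_mk'] at h2
  obtain ⟨m, hm, hmx⟩ := exists_conj_le (Q := F) le_sup_left hF (hidx F) hxL (hF.map _)
  rw [cm_cm] at hmx
  have hmN : m * x ∈ N := Local.mem_normalizer_of_map_conj_eq (Subgroup.eq_of_le_of_card_ge hmx (card_cm _ F).ge)
  have hxNP : x ∈ N ⊔ P := by
    have hmL : m ∈ N ⊔ P := (sup_le_sup_right Subgroup.le_normalizer P : F ⊔ P ≤ N ⊔ P) hm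
    simpa using mul_mem (inv_mem hmL) (Subgroup.mem_sup_left (T := P) hmN)
  obtain ⟨R⟩ := (inferInstance : Nonempty (Sylow q N))
  set RN := (R : Subgroup N).map N.subtype
  have hxq : IsPGroup q (Subgroup.zpowers x) := by
    have := (hF.to_le (Subgroup.zpowers_le.2 hf)).map (MulAut.conj g).toMonoidHom
    rwa [MonoidHom.map_zpowers] at this
  have hRidx : ¬ q ∣ RN.relIndex (N ⊔ P) := by
    intro hd
    rw [← Subgroup.relIndex_mul_relIndex _ N _ (Subgroup.map_subtype_le _) le_sup_left] at hd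
    rcases hq.out.dvd_mul.1 hd with h | h
    · rw [Subgroup.relIndex, Subgroup.subgroupOf, Subgroup.comap_map_eq_self_of_injective N.subtype_injective] at h
      exact R.not_dvd_index h
    · exact hidx N h
  obtain ⟨m', hm', hm'x⟩ := exists_conj_le (Q := RN) ((Subgroup.map_subtype_le _).trans le_sup_left) (R.2.map _)
    hRidx (Subgroup.zpowers_le.2 hxNP) hxq
  obtain ⟨z, hz, o, ho, rfl⟩ := Subgroup.mem_sup_of_normal_right.1 hm'
  have h1 : o * x * o⁻¹ ∈ N := by
    have h2 : z * o * x * (z * o)⁻¹ ∈ N := Subgroup.map_subtype_le _ (hm'x (conj_mem_cm (Subgroup.mem_zpowers x)))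
    have h3 := mul_mem (mul_mem (inv_mem hz) h2) hz
    rwa [show z⁻¹ * (z * o * x * (z * o)⁻¹) * z = o * x * o⁻¹ by group] at h3
  have h2 : o * x * o⁻¹ ∈ F := hHS (o * g) ⟨⟨f, hf, by simp [hxdef, mul_assoc]⟩, h1⟩
  refine ⟨o * x * o⁻¹, h2, ?_⟩
  rw [map_mul, map_mul, map_inv, show π o = 1 from (QuotientGroup.eq_one_iff o).2 ho]
  simp

end action

/-- Supersolvability. -/
theorem isSupersolvable_of_hyp {G : Type u} [Group G] [Finite G] {E : Subgroup G} [E.Normal]
    (hGE : IsSupersolvable (G ⧸ E)) (h : Hyp E) : IsSupersolvable G := by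
  induction hn : Nat.card G using Nat.strong_induction_on generalizing G with
  | h n ih =>
  subst hn
  by_cases hE0 : E = ⊥
  · subst hE0
    exact Supersolvable.of_equiv QuotientGroup.quotientBot hGE
  -- normal subgroups of full Sylow order
  have sub : ∀ H : Subgroup G, H ≠ ⊤ → (∀ (q : ℕ), q.Prime → ∀ Q : Subgroup G, Q ≤ H → IsPGroup q Q →
      ¬ q ∣ Q.relIndex H → ¬ IsCyclic Q → ∃ a : ℕ, 1 ≤ a ∧ q ^ a < Nat.card Q ∧ Fam (q ^ a) Q) →
      IsSupersolvable H := by
    intro H hH hHyp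
    haveI : Subsingleton (H ⧸ (⊤ : Subgroup H)) := QuotientGroup.subsingleton_quotient_top
    refine ih _ (lt_of_le_of_ne (Nat.le_of_dvd Nat.card_pos H.card_subgroup_dvd_card)
      fun e => hH (Subgroup.eq_top_of_card_eq H e)) (G := H) (E := ⊤) Supersolvable.of_subsingleton ?_ rfl
    intro q hq Q _ hQ hidx hcyc
    obtain ⟨a, ha1, halt, hfam⟩ := hHyp q hq (Q.map H.subtype) (Subgroup.map_subtype_le _) (hQ.map _) (by
      rw [Subgroup.relIndex, Subgroup.subgroupOf, Subgroup.comap_map_eq_self_of_injective H.subtype_injective]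
      rwa [Subgroup.relIndex_top_right] at hidx) (fun hc => hcyc (by
        haveI := hc
        exact isCyclic_of_injective (Q.equivMapOfInjective H.subtype H.subtype_injective).toMonoidHom
          (Q.equivMapOfInjective H.subtype H.subtype_injective).injective))
    rw [Subgroup.card_map_of_injective H.subtype_injective] at halt
    refine ⟨a, ha1, halt, ?_⟩
    have h1 := fam_subgroupOf (N := H) hfam
    rwa [Subgroup.subgroupOf, Subgroup.comap_map_eq_self_of_injective H.subtype_injective] at h1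
  -- a normal Sylow subgroup of `E`
  have largest : ∀ H : Subgroup G, H.Normal → H ≠ ⊥ → IsSupersolvable H →
      ∃ p : ℕ, p.Prime ∧ ∃ P : Subgroup G, P.Normal ∧ P ≤ H ∧ IsPGroup p P ∧ ¬ p ∣ P.relIndex H ∧ P ≠ ⊥ := by
    intro H hH hH0 hHs
    haveI := hH
    haveI : Nontrivial H := (Subgroup.nontrivial_iff_ne_bot H).2 hH0
    obtain ⟨p, hp, hpd, hmax⟩ := Supersolvable.exists_largest_prime (G := H)
    haveI := Fact.mk hp
    obtain ⟨R⟩ := (inferInstance : Nonempty (Sylow p H))
    haveI := Supersolvable.sylow_normal_of_index_prime (fun M hM => Supersolvable.index_prime hHs hM) hmax R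
    haveI : (R : Subgroup H).Characteristic := Sylow.characteristic_of_normal R inferInstance
    refine ⟨p, hp, (R : Subgroup H).map H.subtype, ConjAct.normal_of_characteristic_of_normal,
      Subgroup.map_subtype_le _, R.2.map _, ?_, fun e => R.ne_bot_of_dvd_card hpd
        ((Subgroup.map_eq_bot_iff_of_injective _ H.subtype_injective).1 e)⟩
    rw [Subgroup.relIndex, Subgroup.subgroupOf, Subgroup.comap_map_eq_self_of_injective H.subtype_injective]
    exact R.not_dvd_index
  obtain ⟨p, hp, P, hPn, hPE, hPp, hPidx, hP0⟩ :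
      ∃ p : ℕ, p.Prime ∧ ∃ P : Subgroup G, P.Normal ∧ P ≤ E ∧ IsPGroup p P ∧ ¬ p ∣ P.relIndex E ∧ P ≠ ⊥ := by
    by_cases hET : E ≠ ⊤
    · exact largest E inferInstance hE0 (sub E hET h)
    push Not at hET
    subst hET
    haveI : Nontrivial G := by
      obtain ⟨x, -, hx⟩ := (⊤ : Subgroup G).bot_or_exists_ne_one.resolve_left hE0
      exact ⟨x, 1, hx⟩
    set p := (Nat.card G).minFac
    have hp : p.Prime := Nat.minFac_prime Finite.one_lt_card.ne'
    haveI := Fact.mk hp
    have hmin : ∀ q : ℕ, q.Prime → q ∣ Nat.card G → p ≤ q := fun q hq hd => Nat.minFac_le_of_dvd hq.two_le hd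
    obtain ⟨R⟩ := (inferInstance : Nonempty (Sylow p G))
    have hnpc : HasNormalPComplement p G := by
      by_cases hc : IsCyclic (R : Subgroup G)
      · exact hasNormalPComplement_of_cyclic hmin R hc
      · obtain ⟨a, ha1, halt, hfam⟩ := h p hp R le_top R.2
          (by rw [Subgroup.relIndex_top_right]; exact R.not_dvd_index) hc
        exact hasNormalPComplement_of_fam ha1 hmin R halt hfam
    set K := pPrimeCore p G
    have hKq : IsPGroup p (G ⧸ K) := isPGroup_quotient_of_hasNormalPComplement hnpc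
    by_cases hK0 : K = ⊥
    · refine ⟨p, hp, ⊤, inferInstance, le_rfl, ?_, by rw [Subgroup.relIndex_self]; exact hp.not_dvd_one, top_ne_bot⟩
      intro x
      obtain ⟨k, hk⟩ := hKq (QuotientGroup.mk (x : G))
      refine ⟨k, Subtype.ext ?_⟩
      rw [← QuotientGroup.mk_pow, QuotientGroup.eq_one_iff] at hk
      exact Subgroup.mem_bot.1 (hK0.le hk)
    have hKT : K ≠ ⊤ := fun e => by
      have hc := card_pPrimeCore_coprime (G := G) p
      rw [show pPrimeCore p G = ⊤ from e, Subgroup.card_top] at hc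
      exact hp.not_dvd_one ((hc.symm.eq_one_of_dvd (Nat.minFac_dvd _)) ▸ dvd_refl _)
    have hKidx : ∀ q : ℕ, q.Prime → ∀ Q : Subgroup G, Q ≤ K → IsPGroup q Q → ¬ q ∣ Q.relIndex K →
        Q ≠ ⊥ → ¬ q ∣ Q.relIndex ⊤ := by
      intro q hq Q hQK hQ hd hQ0 hd'
      haveI := Fact.mk hq
      rw [← Subgroup.relIndex_mul_relIndex _ K _ hQK le_top, Subgroup.relIndex_top_right] at hd'
      rcases hq.dvd_mul.1 hd' with h' | h'
      · exact hd h'
      · obtain ⟨k, hk⟩ := hKq.exists_card_eq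
        rw [← Subgroup.index_eq_card] at hk
        obtain rfl : q = p := (Nat.prime_dvd_prime_iff_eq hq hp).1 (hq.dvd_of_dvd_pow (hk ▸ h'))
        obtain ⟨j, hj⟩ := hQ.exists_card_eq
        exact hQ0 (Subgroup.eq_bot_of_card_eq Q (Nat.Coprime.eq_one_of_dvd
          ((card_pPrimeCore_coprime p).pow_right j).symm (hj ▸ Subgroup.card_dvd_of_le hQK) ▸ hj))
    obtain ⟨q, hq, Q, hQn, hQK, hQ, hQd, hQ0⟩ := largest K inferInstance hK0 (sub K hKT fun q hq Q hQK hQ hd hc =>
      h q hq Q le_top hQ (hKidx q hq Q hQK hQ hd fun e => hc (by subst e; infer_instance)) hc)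
    exact ⟨q, hq, Q, hQn, le_top, hQ, hKidx q hq Q hQK hQ hQd hQ0, hQ0⟩
  haveI := Fact.mk hp
  haveI := hPn
  set π := QuotientGroup.mk' P
  have hπ := QuotientGroup.mk'_surjective P
  haveI : (E.map π).Normal := Subgroup.Normal.map inferInstance π hπ
  have hGP : IsSupersolvable (G ⧸ P) := by
    refine ih _ (Supersolvable.card_quotient_lt P hP0) (G := G ⧸ P) (E := E.map π) ?_ ?_ rfl
    · refine Supersolvable.of_surjective (f := QuotientGroup.map E (E.map π) π (Subgroup.le_comap_map π E)) ?_ hGE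
      intro y
      obtain ⟨y, rfl⟩ := QuotientGroup.mk'_surjective (E.map π) y
      obtain ⟨g, rfl⟩ := hπ y
      exact ⟨QuotientGroup.mk g, rfl⟩
    intro q hq Qb hQb hQbp hQbidx hQbc
    haveI := Fact.mk hq
    have hqp : q ≠ p := by
      rintro rfl
      refine hQbc ?_
      obtain ⟨j, hj⟩ := hQbp.exists_card_eq
      have hdvd : Nat.card Qb ∣ P.relIndex E := card_map_quotient (W := P) E ▸ Subgroup.card_dvd_of_le hQb
      have : Qb = ⊥ := Subgroup.eq_bot_of_card_eq Qb (Nat.Coprime.eq_one_of_dvd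
        (((Fact.out : q.Prime).coprime_iff_not_dvd.2 hPidx).pow_left j) (hj ▸ hdvd) ▸ hj)
      subst this; infer_instance
    set Y := Qb.comap π
    have hPY : P ≤ Y := fun x hx => by
      show π x ∈ Qb
      rw [show π x = 1 from (QuotientGroup.eq_one_iff x).2 hx]; exact one_mem _
    obtain ⟨R⟩ := (inferInstance : Nonempty (Sylow q Y))
    set Q := (R : Subgroup Y).map Y.subtype
    have hQY : Q ≤ Y := Subgroup.map_subtype_le _
    have hQq : IsPGroup q Q := R.2.map _
    obtain ⟨kP, hkP⟩ := hPp.exists_card_eq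
    have hQP : Q ⊓ P = ⊥ := disjoint_iff.1 (IsPGroup.disjoint_of_ne q p hqp Q P hQq hPp)
    have hQmap : Q.map π = Qb := by
      refine Subgroup.eq_of_le_of_card_ge ((Subgroup.map_mono hQY).trans (Subgroup.map_comap_le _ _)) ?_
      rw [card_map_quotient, ← Subgroup.inf_relIndex_right, inf_comm, hQP, Subgroup.relIndex_bot_left]
      obtain ⟨j, hj⟩ := hQbp.exists_card_eq
      rw [hj]
      refine Nat.le_of_dvd Nat.card_pos ?_
      rw [Subgroup.card_map_of_injective Y.subtype_injective]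
      refine (Nat.Prime.pow_dvd_iff_le_factorization hq Nat.card_pos.ne').2 ?_
      rw [R.card_eq_multiplicity, Nat.factorization_pow_self hq]
      refine (Nat.Prime.pow_dvd_iff_le_factorization hq Nat.card_pos.ne').1 (hj ▸ ?_)
      rw [← Subgroup.map_comap_eq_self_of_surjective hπ Qb]
      exact Subgroup.card_map_dvd _ _
    have hQE : Q ≤ E := hQY.trans ((Subgroup.comap_mono hQb).trans (by
      rw [Subgroup.comap_map_eq, QuotientGroup.ker_mk', sup_eq_left.2 hPE]))
    have hinj : Set.InjOn π (Q : Set G) := fun s hs t ht hst => by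
      have h1 : s⁻¹ * t ∈ Q ⊓ P := ⟨Q.mul_mem (Q.inv_mem hs) ht, QuotientGroup.eq.1 hst⟩
      rw [hQP, Subgroup.mem_bot, inv_mul_eq_one] at h1
      exact h1
    let e : Q ≃* Qb := (MulEquiv.ofBijective (π.subgroupMap Q)
      ⟨fun a b h => Subtype.ext (hinj a.2 b.2 (congrArg Subtype.val h)), π.subgroupMap_surjective Q⟩).trans
      (MulEquiv.subgroupCongr hQmap)
    obtain ⟨a, ha1, halt, hfam⟩ := h q hq Q hQE hQq (by
      intro hd
      rw [← Subgroup.relIndex_mul_relIndex _ Y _ hQY ((Subgroup.comap_mono hQb).trans (by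
        rw [Subgroup.comap_map_eq, QuotientGroup.ker_mk', sup_eq_left.2 hPE]))] at hd
      rcases hq.dvd_mul.1 hd with h' | h'
      · rw [Subgroup.relIndex, Subgroup.subgroupOf, Subgroup.comap_map_eq_self_of_injective Y.subtype_injective] at h'
        exact R.not_dvd_index h'
      · refine hQbidx ?_
        rw [← Subgroup.map_comap_eq_self_of_surjective hπ Qb]
        rw [Subgroup.relIndex_map_map, QuotientGroup.ker_mk', sup_eq_left.2 hPY, sup_eq_left.2 hPE]
        exact h') (fun hc => hQbc (by haveI := hc; exact isCyclic_of_surjective e.toMonoidHom e.surjective))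
    refine ⟨a, ha1, by rwa [← Nat.card_congr e.toEquiv], fun Fb hFb hFbc => ?_⟩
    set F := Fb.comap π ⊓ Q
    have hFmap : F.map π = Fb := by
      refine le_antisymm ((Subgroup.map_mono inf_le_left).trans (Subgroup.map_comap_le _ _)) fun y hy => ?_
      obtain ⟨s, hs, rfl⟩ := hQmap.ge (hFb hy)
      exact ⟨s, ⟨hy, hs⟩, rfl⟩
    have hFc : Nat.card F = Nat.card Fb := by
      rw [← hFmap]
      exact Nat.card_congr (Equiv.ofBijective (π.subgroupMap F)
        ⟨fun a b h => Subtype.ext (hinj a.2.2 b.2.2 (congrArg Subtype.val h)), π.subgroupMap_surjective F⟩)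
    rw [← hFmap]
    exact hs_map_quotient hPp hqp (hQq.to_le inf_le_right) (hfam F inf_le_right (by rw [hFc]; exact hFbc))
  by_cases hc : IsCyclic P
  · haveI := hc
    exact Supersolvable.of_quotient P hGP
  obtain ⟨a, ha1, halt, hfam⟩ := h p hp P hPE hPp hPidx hc
  refine Supersolvable.of_index_prime fun M hM => ?_
  by_cases hPM : P ≤ M
  · rw [← Supersolvable.index_map_eq_of_le hPM]
    exact Supersolvable.index_prime hGP (Supersolvable.isCoatom_map_of_le hPM hM)
  · exact index_prime_of_fam hPp ha1 halt hfam hM hPM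

end CfsgLib.HSub
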